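import Mathlib
import Groth.Prelude.Def_CohB1
import Groth.Agent.VarDim.Algebra
import Groth.Agent.GenPt.Proper
import Groth.Agent.DimLift.Basic

/-!
Dimension of closed subsets of projective space in terms of homogeneous primes.
-/

universe u

set_option linter.style.haveILetI false
set_option linter.style.longLine false

open MvPolynomial TopologicalSpace Topology

namespace Groth.Agent.ProjDim

variable {k : Type u} [Field k]

/-- The natural number `dim R/P` for a prime of the polynomial ring. -/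
theorem exists_dim_eq {σ : Type} [Finite σ] (P : Ideal (MvPolynomial σ k)) [P.IsPrime] :
    ∃ c : ℕ, ringKrullDim (MvPolynomial σ k ⧸ P) = c := by
  haveI : Algebra.FiniteType k (MvPolynomial σ k ⧸ P) :=
    Algebra.FiniteType.of_surjective (Ideal.Quotient.mkₐ k P) Ideal.Quotient.mk_surjective
  obtain ⟨c, hc, -⟩ := VarDim.exists_ringKrullDim_eq_trdeg k (MvPolynomial σ k ⧸ P)
  exact ⟨c, hc⟩

noncomputable def dimQ {σ : Type} [Finite σ] (P : Ideal (MvPolynomial σ k)) [P.IsPrime] : ℕ :=
  (exists_dim_eq P).choose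

theorem dimQ_spec {σ : Type} [Finite σ] (P : Ideal (MvPolynomial σ k)) [P.IsPrime] :
    ringKrullDim (MvPolynomial σ k ⧸ P) = (dimQ P : WithBot ℕ∞) :=
  (exists_dim_eq P).choose_spec

theorem dimQ_eq_of_eq {σ : Type} [Finite σ] {P Q : Ideal (MvPolynomial σ k)} [P.IsPrime]
    [Q.IsPrime] (h : P = Q) : dimQ P = dimQ Q := by
  subst h; rfl

theorem dimQ_strictAnti {σ : Type} [Finite σ] {P Q : Ideal (MvPolynomial σ k)} [P.IsPrime]
    [Q.IsPrime] (h : P < Q) : dimQ Q + 1 ≤ dimQ P := by
  haveI : Algebra.FiniteType k (MvPolynomial σ k ⧸ P) :=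
    Algebra.FiniteType.of_surjective (Ideal.Quotient.mkₐ k P) Ideal.Quotient.mk_surjective
  set Q' := Q.map (Ideal.Quotient.mk P) with hQ'
  haveI : Q'.IsPrime := Ideal.map_isPrime_of_surjective Ideal.Quotient.mk_surjective
    (by rw [Ideal.mk_ker]; exact h.le)
  have hformula := VarDim.ringKrullDim_quotient_add_height k _ Q'
  rw [ringKrullDim_eq_of_ringEquiv (DoubleQuot.quotQuotEquivQuotOfLE h.le), dimQ_spec Q,
    dimQ_spec P] at hformula
  have hne : Q' ≠ ⊥ := fun h0 => by
    refine h.not_ge fun x hx => Ideal.Quotient.eq_zero_iff_mem.mp ?_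
    have : Ideal.Quotient.mk P x ∈ Q' := Ideal.mem_map_of_mem _ hx
    simpa [h0] using this
  have h1 : (1 : ℕ∞) ≤ Q'.height := by
    rw [ENat.one_le_iff_ne_zero, Ne, Ideal.height_eq_zero_iff_eq_bot]
    exact hne
  haveI : IsNoetherianRing (MvPolynomial σ k ⧸ P) := Algebra.FiniteType.isNoetherianRing k _
  obtain ⟨m, hm⟩ := ENat.ne_top_iff_exists.mp (Q'.height_ne_top Ideal.IsPrime.ne_top')
  rw [← hm] at hformula h1
  have h2 : dimQ Q + m = dimQ P := by exact_mod_cast hformula
  have h3 : 1 ≤ m := by exact_mod_cast h1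
  omega

theorem dimQ_anti {σ : Type} [Finite σ] {P Q : Ideal (MvPolynomial σ k)} [P.IsPrime]
    [Q.IsPrime] (h : P ≤ Q) : dimQ Q ≤ dimQ P := by
  rcases h.lt_or_eq with h | h
  · exact le_of_lt (dimQ_strictAnti h)
  · exact (dimQ_eq_of_eq h).ge

/-- Minimal primes over `P + (s)` lose at most `#s` in dimension. -/
theorem dimQ_le_of_mem_minimalPrimes_sup {σ : Type} [Finite σ] (P M : Ideal (MvPolynomial σ k))
    [P.IsPrime] [M.IsPrime] {r : ℕ} (f : Fin r → MvPolynomial σ k)
    (hM : M ∈ (P ⊔ Ideal.span (Set.range f)).minimalPrimes) : dimQ P ≤ dimQ M + r := by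
  obtain ⟨hPM, hfM⟩ := sup_le_iff.mp hM.1.2
  haveI : Algebra.FiniteType k (MvPolynomial σ k ⧸ P) :=
    Algebra.FiniteType.of_surjective (Ideal.Quotient.mkₐ k P) Ideal.Quotient.mk_surjective
  haveI : IsNoetherianRing (MvPolynomial σ k ⧸ P) := Algebra.FiniteType.isNoetherianRing k _
  set M' := M.map (Ideal.Quotient.mk P) with hM'
  haveI : M'.IsPrime := Ideal.map_isPrime_of_surjective Ideal.Quotient.mk_surjective
    (by rw [Ideal.mk_ker]; exact hPM)
  have hmin : M' ∈ (Ideal.span (Set.range (Ideal.Quotient.mk P ∘ f))).minimalPrimes := by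
    have h1 : Ideal.span (Set.range (Ideal.Quotient.mk P ∘ f)) =
        (P ⊔ Ideal.span (Set.range f)).map (Ideal.Quotient.mk P) := by
      rw [Ideal.map_sup, Ideal.map_quotient_self, bot_sup_eq, Ideal.map_span, Set.range_comp]
    rw [h1]
    rw [Ideal.minimalPrimes_map_of_surjective Ideal.Quotient.mk_surjective]
    refine ⟨M, ?_, rfl⟩
    rwa [Ideal.mk_ker, sup_eq_left.mpr le_sup_left]
  have hht : M'.height ≤ (r : ℕ∞) := by
    refine (Ideal.height_le_card_of_mem_minimalPrimes_span (Set.finite_range _) hmin).trans ?_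
    rw [← Set.image_univ]
    exact_mod_cast (Set.ncard_image_le Set.finite_univ).trans (by simp)
  have hformula := VarDim.ringKrullDim_quotient_add_height k _ M'
  rw [ringKrullDim_eq_of_ringEquiv (DoubleQuot.quotQuotEquivQuotOfLE hPM), dimQ_spec M,
    dimQ_spec P] at hformula
  obtain ⟨h, hh⟩ := ENat.ne_top_iff_exists.mp (ne_top_of_le_ne_top (ENat.natCast_ne_top r) hht)
  rw [← hh] at hformula hht
  have h1 : dimQ M + h = dimQ P := by exact_mod_cast hformula
  have h2 : h ≤ r := by exact_mod_cast hht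
  omega

variable {n : ℕ}

local notation "Rn" => MvPolynomial (Fin (n + 1)) k
local notation "PP" => ProjectiveSpectrum (CohB1.polyGrading n k)

instance : T0Space PP :=
  inferInstanceAs (T0Space ↥(AlgebraicGeometry.Proj (CohB1.polyGrading n k)))

instance : QuasiSober PP :=
  inferInstanceAs (QuasiSober ↥(AlgebraicGeometry.Proj (CohB1.polyGrading n k)))

theorem dimQ_irr : dimQ (GenPt.irr k n) = 0 := by
  have h := dimQ_spec (GenPt.irr k n)
  letI := Ideal.Quotient.field (GenPt.irr k n)
  rw [ringKrullDim_eq_zero_of_field] at h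
  exact_mod_cast h.symm

/-- The ideal of a point. -/
noncomputable def pt (x : PP) : Ideal Rn := x.asHomogeneousIdeal.toIdeal

instance (x : PP) : (pt x).IsPrime := x.isPrime

theorem pt_isHomogeneous (x : PP) : (pt x).IsHomogeneous (CohB1.polyGrading n k) :=
  x.asHomogeneousIdeal.isHomogeneous

theorem irrelevant_le_irr :
    (HomogeneousIdeal.irrelevant (CohB1.polyGrading n k)).toIdeal ≤ GenPt.irr k n :=
  GenPt.le_irr (HomogeneousIdeal.isHomogeneous _) fun h => by
    have h1 := h.ge (show (1 : Rn) ∈ (⊤ : Ideal Rn) from trivial)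
    change GradedRing.proj (CohB1.polyGrading n k) 0 1 = 0 at h1
    rw [GradedRing.proj_apply, DirectSum.decompose_of_mem_same _ (SetLike.one_mem_graded _)] at h1
    exact one_ne_zero h1

theorem pt_lt_irr (x : PP) : pt x < GenPt.irr k n := by
  refine lt_of_le_of_ne (GenPt.le_irr (pt_isHomogeneous x) Ideal.IsPrime.ne_top') fun h => ?_
  refine x.not_irrelevant_le fun a ha => ?_
  have : a ∈ pt x := h ▸ irrelevant_le_irr ha
  exact this

theorem one_le_dimQ_pt (x : PP) : 1 ≤ dimQ (pt x) :=
  le_trans (by omega) (dimQ_strictAnti (pt_lt_irr x))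

theorem X_mem_irrelevant (i : Fin (n + 1)) :
    (X i : Rn) ∈ HomogeneousIdeal.irrelevant (CohB1.polyGrading n k) :=
  HomogeneousIdeal.mem_irrelevant_of_mem _ one_pos
    ((mem_homogeneousSubmodule _ _).2 (isHomogeneous_X k i))

/-- A homogeneous prime other than the irrelevant ideal is a point. -/
theorem exists_pt (P : Ideal Rn) [hP : P.IsPrime]
    (hh : P.IsHomogeneous (CohB1.polyGrading n k)) (hd : P ≠ GenPt.irr k n) :
    ∃ x : PP, pt x = P :=
  ⟨⟨⟨P, hh⟩, hP, fun h => hd (GenPt.eq_irr_of_X_mem hP.ne_top fun i => h (X_mem_irrelevant i))⟩, rfl⟩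

theorem exists_pt_of_dim (P : Ideal Rn) [hP : P.IsPrime]
    (hh : P.IsHomogeneous (CohB1.polyGrading n k)) (hd : 1 ≤ dimQ P) :
    ∃ x : PP, pt x = P :=
  exists_pt P hh fun h => by
    rw [dimQ_eq_of_eq h, dimQ_irr] at hd
    exact absurd hd (by omega)

theorem pt_le_iff {x y : PP} : pt x ≤ pt y ↔ x ≤ y := Iff.rfl

theorem pt_lt_iff {x y : PP} : pt x < pt y ↔ x < y := by
  simp only [lt_iff_le_not_ge, pt_le_iff]

theorem pt_injective : Function.Injective (pt : PP → Ideal Rn) := fun _ _ h =>
  le_antisymm (pt_le_iff.1 h.le) (pt_le_iff.1 h.ge)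

/-- The length of chains of points above a point. -/
theorem coheight_pt (x : PP) : Order.coheight x + 1 = (dimQ (pt x) : ℕ∞) := by
  have upper : Order.coheight x + 1 ≤ (dimQ (pt x) : ℕ∞) := by
    have key : ∀ c : ℕ, ∀ y : PP, dimQ (pt y) ≤ c + 1 → Order.coheight y ≤ (c : ℕ∞) := by
      intro c
      induction c with
      | zero =>
        intro y hy
        rw [Order.coheight_le_coe_iff]
        intro z hz
        have h1 := dimQ_strictAnti (pt_lt_iff.2 hz)
        have h2 := one_le_dimQ_pt z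
        omega
      | succ c ih =>
        intro y hy
        rw [Order.coheight_le_coe_iff]
        intro z hz
        have h1 := dimQ_strictAnti (pt_lt_iff.2 hz)
        exact lt_of_le_of_lt (ih z (by omega)) (by exact_mod_cast Nat.lt_succ_self c)
    obtain ⟨c, hc⟩ : ∃ c, dimQ (pt x) = c + 1 := ⟨dimQ (pt x) - 1, by have := one_le_dimQ_pt x; omega⟩
    rw [hc, Nat.cast_add, Nat.cast_one]
    exact add_le_add (key c x hc.le) le_rfl
  refine le_antisymm upper ?_
  have key : ∀ c : ℕ, ∀ y : PP, dimQ (pt y) = c + 1 → (c : ℕ∞) ≤ Order.coheight y := by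
    intro c
    induction c with
    | zero => intro y _; simp
    | succ c ih =>
      intro y hy
      obtain ⟨i, hi⟩ : ∃ i, (X i : Rn) ∉ pt y := by
        by_contra h
        push Not at h
        exact (pt_lt_irr y).ne (GenPt.eq_irr_of_X_mem Ideal.IsPrime.ne_top' h)
      have hne : pt y ⊔ Ideal.span (Set.range ![(X i : Rn)]) ≠ ⊤ := ne_top_of_le_ne_top
        (Ideal.IsPrime.ne_top' (I := GenPt.irr k n)) (sup_le (pt_lt_irr y).le
          (Ideal.span_le.2 (by rintro _ ⟨j, rfl⟩; fin_cases j; exact GenPt.X_mem_irr i)))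
      obtain ⟨M, hM⟩ := Ideal.nonempty_minimalPrimes hne
      haveI := hM.1.1
      have hhom : M.IsHomogeneous (CohB1.polyGrading n k) := by
        refine GenPt.minimal_isHomogeneous ((pt_isHomogeneous y).sup ?_) hM
        refine Ideal.homogeneous_span _ _ ?_
        rintro _ ⟨j, rfl⟩
        fin_cases j
        exact ⟨1, (mem_homogeneousSubmodule _ _).2 (isHomogeneous_X k i)⟩
      have hlt : pt y < M := lt_of_le_of_ne (le_sup_left.trans hM.1.2) fun h => hi
        (h ▸ hM.1.2 (Ideal.mem_sup_right (Ideal.subset_span ⟨0, rfl⟩)))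
      have h1 := dimQ_strictAnti hlt
      have h2 := dimQ_le_of_mem_minimalPrimes_sup (pt y) M _ hM
      obtain ⟨z, rfl⟩ := exists_pt_of_dim M hhom (by omega)
      have h3 := ih z (by omega)
      calc ((c + 1 : ℕ) : ℕ∞) = (c : ℕ∞) + 1 := by push_cast; rfl
        _ ≤ Order.coheight z + 1 := add_le_add h3 le_rfl
        _ ≤ Order.coheight y := Order.coheight_add_one_le (pt_lt_iff.1 hlt)
  obtain ⟨c, hc⟩ : ∃ c, dimQ (pt x) = c + 1 := ⟨dimQ (pt x) - 1, by have := one_le_dimQ_pt x; omega⟩
  rw [hc, Nat.cast_add, Nat.cast_one]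
  exact add_le_add (key c x hc) le_rfl

theorem coheight_eq_iff (x : PP) (c : ℕ) : Order.coheight x = c ↔ dimQ (pt x) = c + 1 := by
  constructor
  · intro h
    have := coheight_pt x
    rw [h] at this
    exact_mod_cast this.symm
  · intro h
    have h1 := coheight_pt x
    rw [h, Nat.cast_add, Nat.cast_one] at h1
    exact (ENat.add_left_injective_of_ne_top ENat.one_ne_top) h1

section Closed

/-- The dimension of a closed subset of `ℙⁿ` is the length of its chains of points. -/
theorem topDim_eq_krullDim (Z : Set PP) (hZ : IsClosed Z) : topologicalKrullDim Z = Order.krullDim Z := by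
  haveI : QuasiSober Z := hZ.isClosedEmbedding_subtypeVal.quasiSober
  letI : PartialOrder Z := Subtype.partialOrder _
  have h := @DimLift.topDim_eq_krullDim_points Z _ _ _
  rw [h, ← Order.krullDim_orderDual (α := Z)]
  letI o : PartialOrder Z := specializationOrder Z
  refine @Order.krullDim_eq_of_orderIso _ _ o.toPreorder _ ?_
  exact
    { toFun := fun z => OrderDual.toDual z
      invFun := fun z => OrderDual.ofDual z
      left_inv := fun _ => rfl
      right_inv := fun _ => rfl
      map_rel_iff' := by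
        intro a b
        change (b : PP) ≤ (a : PP) ↔ b ⤳ a
        rw [ProjectiveSpectrum.le_iff_mem_closure, ← specializes_iff_mem_closure,
          subtype_specializes_iff] }

/-- The dimension of the closure of a point. -/
theorem topDim_closure_singleton (x : PP) :
    topologicalKrullDim (closure ({x} : Set PP)) = (Order.coheight x : WithBot ℕ∞) := by
  rw [topDim_eq_krullDim _ isClosed_closure, Order.coheight_eq_krullDim_Ici]
  refine Order.krullDim_eq_of_orderIso (OrderIso.setCongr _ _ ?_)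
  ext y
  exact (ProjectiveSpectrum.le_iff_mem_closure _ x y).symm

theorem topDim_closure_singleton_add_one (x : PP) :
    topologicalKrullDim (closure ({x} : Set PP)) + 1 = (dimQ (pt x) : WithBot ℕ∞) := by
  rw [topDim_closure_singleton]
  exact_mod_cast congrArg (fun a : ℕ∞ => (a : WithBot ℕ∞)) (coheight_pt x)

/-- Irreducible closed sets are closures of points. -/
theorem exists_eq_closure {C : Set PP} (hC : IsClosed C) (hCi : IsIrreducible C) :
    ∃ x, C = closure {x} :=
  ⟨hCi.genericPoint, by rw [hCi.closure_genericPoint hC]⟩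

theorem topDim_image {Z : Set PP} {C : Set Z} : topologicalKrullDim ↥(Subtype.val '' C) = topologicalKrullDim C :=
  ((IsEmbedding.subtypeVal.homeomorphImage C).isHomeomorph.topologicalKrullDim_eq _).symm

/-- Components of a closed subset come from its minimal points. -/
theorem exists_of_mem_irreducibleComponents {Z : Set PP} (hZ : IsClosed Z) {C : Set Z}
    (hC : C ∈ irreducibleComponents Z) :
    ∃ x ∈ Z, (∀ y ∈ Z, y ≤ x → y = x) ∧
      topologicalKrullDim C = topologicalKrullDim (closure ({x} : Set PP)) := by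
  have hCc : IsClosed C := isClosed_of_mem_irreducibleComponents C hC
  have hic : IsClosed (Subtype.val '' C) := hZ.isClosedEmbedding_subtypeVal.isClosedMap C hCc
  obtain ⟨x, hx⟩ := exists_eq_closure hic (hC.1.image _ continuous_subtype_val.continuousOn)
  have hxC : x ∈ Subtype.val '' C := hx ▸ subset_closure rfl
  obtain ⟨⟨x, hxZ⟩, hxC', rfl⟩ := hxC
  refine ⟨x, hxZ, fun y hy hyx => ?_, by rw [← hx, topDim_image]⟩
  have hirr : IsIrreducible (closure ({(⟨y, hy⟩ : Z)} : Set Z)) := isIrreducible_singleton.closure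
  have hsub : C ⊆ closure ({(⟨y, hy⟩ : Z)} : Set Z) := by
    intro c hc
    rw [closure_subtype, Set.image_singleton]
    have : (c : PP) ∈ closure ({x} : Set PP) := hx ▸ ⟨c, hc, rfl⟩
    rw [← ProjectiveSpectrum.le_iff_mem_closure] at this ⊢
    exact hyx.trans this
  have hyC : (⟨y, hy⟩ : Z) ∈ C := hC.2 hirr hsub (subset_closure rfl)
  have : y ∈ closure ({x} : Set PP) := hx ▸ ⟨_, hyC, rfl⟩
  exact le_antisymm hyx ((ProjectiveSpectrum.le_iff_mem_closure _ _ _).2 this)

/-- A closed set attains its dimension at a point. -/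
theorem exists_pt_dim_eq {Z : Set PP} (hZ : IsClosed Z) {r : ℕ} (hr : topologicalKrullDim Z = r) :
    ∃ x ∈ Z, dimQ (pt x) = r + 1 := by
  rw [topDim_eq_krullDim Z hZ] at hr
  obtain ⟨l, hl⟩ := Order.le_krullDim_iff.1 hr.ge
  refine ⟨l.head, l.head.2, (coheight_eq_iff _ r).1 (le_antisymm ?_ ?_)⟩
  · refine WithBot.coe_le_coe.1 ?_
    rw [← topDim_closure_singleton, topDim_eq_krullDim _ isClosed_closure]
    refine le_trans ?_ hr.le
    exact Order.krullDim_le_of_strictMono
      (fun y => (⟨y.1, closure_minimal (Set.singleton_subset_iff.2 l.head.2) hZ y.2⟩ : Z))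
      fun a b h => h
  · rw [← hl]
    exact Order.length_le_coheight (p := l.map Subtype.val fun _ _ h => h) le_rfl

theorem dimQ_le_topDim {Z : Set PP} (hZ : IsClosed Z) {x : PP} (hx : x ∈ Z) :
    (dimQ (pt x) : WithBot ℕ∞) ≤ topologicalKrullDim Z + 1 := by
  rw [← topDim_closure_singleton_add_one]
  refine add_le_add ?_ le_rfl
  exact IsEmbedding.isInducing (f := Set.inclusion (closure_minimal (Set.singleton_subset_iff.2 hx) hZ))
    (IsEmbedding.inclusion _) |>.topologicalKrullDim_le

theorem mem_zeroLocus_iff (x : PP) (s : Set Rn) :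
    x ∈ ProjectiveSpectrum.zeroLocus (CohB1.polyGrading n k) s ↔ s ⊆ pt x := Iff.rfl

theorem mem_closure_iff (x y : PP) : y ∈ closure ({x} : Set PP) ↔ pt x ≤ pt y :=
  (ProjectiveSpectrum.le_iff_mem_closure _ x y).symm

/-- A minimal point of `V(I)` is a minimal prime of `I`. -/
theorem mem_minimalPrimes_of_minimal {I : Ideal Rn}
    (hI : I.IsHomogeneous (CohB1.polyGrading n k)) {x : PP} (hIx : I ≤ pt x)
    (hmin : ∀ y : PP, I ≤ pt y → y ≤ x → y = x) : pt x ∈ I.minimalPrimes := by
  obtain ⟨M, hM, hMx⟩ := Ideal.exists_minimalPrimes_le hIx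
  haveI := hM.1.1
  obtain ⟨y, rfl⟩ := exists_pt M (GenPt.minimal_isHomogeneous hI hM)
    fun h => (pt_lt_irr x).not_ge (h ▸ hMx)
  rwa [← hmin y hM.1.2 hMx]

end Closed

end Groth.Agent.ProjDim
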