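import Mathlib
import Groth.Agent.VarDim.Algebra

/-!
Tensor products of affine domains over a field are equidimensional, and the dimension
inequality for intersections in affine space (reduction to the diagonal).
-/

universe u

open scoped TensorProduct nonZeroDivisors

set_option linter.style.haveILetI false
set_option linter.style.longLine false

namespace Groth.Agent.ProjDim

/-- A finite torsion-free module over a domain embeds in a finite free module. -/
theorem exists_injective_pi (D : Type*) [CommRing D] [IsDomain D] (M : Type*) [AddCommGroup M]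
    [Module D M] [Module.Finite D M] [Module.IsTorsionFree D M] :
    ∃ (n : ℕ) (f : M →ₗ[D] (Fin n → D)), Function.Injective f := by
  classical
  obtain ⟨gens, hgens⟩ := Module.Finite.fg_top (R := D) (M := M)
  have hne : (gens.powerset.filter fun s : Finset M => LinearIndepOn D id (s : Set M)).Nonempty :=
    ⟨∅, by simp⟩
  obtain ⟨t, ht, hmax⟩ := Finset.exists_maximal hne
  rw [Finset.mem_filter, Finset.mem_powerset] at ht
  have key : ∀ g ∈ gens, ∃ d : D, d ≠ 0 ∧ d • g ∈ Submodule.span D (t : Set M) := by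
    intro g hg
    by_cases hgt : g ∈ t
    · exact ⟨1, one_ne_zero, by simpa using Submodule.subset_span hgt⟩
    by_contra hcon
    push Not at hcon
    have hind : LinearIndepOn D id (↑(insert g t) : Set M) := by
      rw [linearIndepOn_iff']
      intro s c hs hsum i hi
      have hzero : g ∈ s → c g = 0 := by
        intro hgs
        by_contra hc
        refine hcon (c g) hc ?_
        rw [← Finset.add_sum_erase s _ hgs] at hsum
        simp only [id] at hsum
        rw [eq_neg_of_add_eq_zero_left hsum]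
        refine Submodule.neg_mem _ (Submodule.sum_mem _ fun x hx => Submodule.smul_mem _ _ ?_)
        refine Submodule.subset_span ?_
        have := hs (Finset.mem_of_mem_erase hx)
        simp only [Finset.coe_insert, Set.mem_insert_iff] at this
        exact this.resolve_left (Finset.ne_of_mem_erase hx)
      by_cases hig : i = g
      · subst hig; exact hzero hi
      have h' := ht.2
      rw [linearIndepOn_iff'] at h'
      refine h' (s.erase g) c ?_ ?_ i (Finset.mem_erase.mpr ⟨hig, hi⟩)
      · intro x hx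
        have := hs (Finset.mem_of_mem_erase hx)
        simp only [Finset.coe_insert, Set.mem_insert_iff] at this
        exact this.resolve_left (Finset.ne_of_mem_erase hx)
      · by_cases hgs : g ∈ s
        · rw [← Finset.add_sum_erase s _ hgs, hzero hgs, zero_smul, zero_add] at hsum
          exact hsum
        · rwa [Finset.erase_eq_of_notMem hgs]
    have hmem : insert g t ∈ gens.powerset.filter fun s : Finset M =>
        LinearIndepOn D id (s : Set M) := by
      rw [Finset.mem_filter, Finset.mem_powerset]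
      exact ⟨Finset.insert_subset hg ht.1, hind⟩
    exact hgt (hmax hmem (Finset.subset_insert _ _) (Finset.mem_insert_self _ _))
  choose! d hd0 hdm using key
  set e : D := ∏ g ∈ gens, d g with he
  have he0 : e ≠ 0 := Finset.prod_ne_zero_iff.mpr fun g hg => hd0 g hg
  have hmem : ∀ x : M, e • x ∈ Submodule.span D (t : Set M) := by
    intro x
    have hx : x ∈ Submodule.span D (gens : Set M) := hgens ▸ Submodule.mem_top
    induction hx using Submodule.span_induction with
    | mem g hg =>
      rw [he, ← Finset.prod_erase_mul gens d hg, mul_smul]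
      exact Submodule.smul_mem _ _ (hdm g hg)
    | zero => simp
    | add x y _ _ h1 h2 => rw [smul_add]; exact add_mem h1 h2
    | smul c x _ h => rw [smul_comm]; exact Submodule.smul_mem _ _ h
  let b : Module.Basis (t : Set M) D (Submodule.span D (Set.range fun x : (t : Set M) => (x : M))) :=
    Module.Basis.span ht.2
  have hrange : Set.range (fun x : (t : Set M) => (x : M)) = (t : Set M) := Subtype.range_coe
  let g : M →ₗ[D] Submodule.span D (Set.range fun x : (t : Set M) => (x : M)) :=
    LinearMap.codRestrict _ (e • LinearMap.id) fun x => by rw [hrange]; exact hmem x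
  have hg : Function.Injective g := by
    intro x y hxy
    have h1 : e • x = e • y := congrArg Subtype.val hxy
    exact smul_right_injective M he0 h1
  let σ : (t : Set M) ≃ Fin (Fintype.card (t : Set M)) := Fintype.equivFin _
  exact ⟨Fintype.card (t : Set M), ((b.reindex σ).equivFun.toLinearMap).comp g,
    (b.reindex σ).equivFun.injective.comp hg⟩

/-- A nonzero element of `D₁ ⊗ D₂` is a nonzerodivisor on `A ⊗ B`. -/
theorem eq_zero_of_map_mul_eq_zero {k : Type*} [Field k] {D₁ D₂ A B : Type*}
    [CommRing D₁] [IsDomain D₁] [Algebra k D₁] [CommRing D₂] [IsDomain D₂] [Algebra k D₂]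
    [CommRing A] [IsDomain A] [Algebra k A] [Algebra D₁ A] [IsScalarTower k D₁ A]
    [Module.Finite D₁ A] [FaithfulSMul D₁ A]
    [CommRing B] [IsDomain B] [Algebra k B] [Algebra D₂ B] [IsScalarTower k D₂ B]
    [Module.Finite D₂ B] [FaithfulSMul D₂ B]
    [IsDomain (D₁ ⊗[k] D₂)]
    {w : D₁ ⊗[k] D₂} (hw : w ≠ 0) {x : A ⊗[k] B}
    (h : Algebra.TensorProduct.map (IsScalarTower.toAlgHom k D₁ A)
      (IsScalarTower.toAlgHom k D₂ B) w * x = 0) : x = 0 := by
  classical
  haveI : Module.IsTorsionFree D₁ A :=
    Module.isTorsionFree_iff_algebraMap_injective.mpr (FaithfulSMul.algebraMap_injective D₁ A)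
  haveI : Module.IsTorsionFree D₂ B :=
    Module.isTorsionFree_iff_algebraMap_injective.mpr (FaithfulSMul.algebraMap_injective D₂ B)
  obtain ⟨n, f, hf⟩ := exists_injective_pi D₁ A
  obtain ⟨m, g, hg⟩ := exists_injective_pi D₂ B
  let pf : Fin n → (A →ₗ[k] D₁) := fun i => ((LinearMap.proj i).comp f).restrictScalars k
  let pg : Fin m → (B →ₗ[k] D₂) := fun j => ((LinearMap.proj j).comp g).restrictScalars k
  have key : ∀ (i : Fin n) (j : Fin m) (w : D₁ ⊗[k] D₂) (x : A ⊗[k] B),
      TensorProduct.map (pf i) (pg j) (Algebra.TensorProduct.map (IsScalarTower.toAlgHom k D₁ A)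
        (IsScalarTower.toAlgHom k D₂ B) w * x) = w * TensorProduct.map (pf i) (pg j) x := by
    intro i j w x
    induction w using TensorProduct.induction_on with
    | zero => simp
    | add w₁ w₂ h₁ h₂ => simp only [map_add, add_mul, h₁, h₂]
    | tmul α β =>
      induction x using TensorProduct.induction_on with
      | zero => simp
      | add x₁ x₂ h₁ h₂ => simp only [mul_add, map_add, h₁, h₂]
      | tmul a b =>
        simp only [Algebra.TensorProduct.map_tmul, IsScalarTower.coe_toAlgHom',
          Algebra.TensorProduct.tmul_mul_tmul, TensorProduct.map_tmul, pf, pg,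
          LinearMap.restrictScalars_apply, LinearMap.comp_apply, ← Algebra.smul_def, map_smul,
          smul_eq_mul]
  have hzero : ∀ i j, TensorProduct.map (pf i) (pg j) x = 0 := fun i j => by
    have := congrArg (TensorProduct.map (pf i) (pg j)) h
    rw [key, map_zero] at this
    exact (mul_eq_zero.mp this).resolve_left hw
  have hinj : Function.Injective (TensorProduct.map (f.restrictScalars k) (g.restrictScalars k)) := by
    rw [← LinearMap.lTensor_comp_rTensor, LinearMap.coe_comp]
    exact (Module.Flat.lTensor_preserves_injective_linearMap (M := Fin n → D₁)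
        (g.restrictScalars k) hg).comp
      (Module.Flat.rTensor_preserves_injective_linearMap (M := B) (f.restrictScalars k) hf)
  refine hinj ?_
  rw [map_zero]
  set y := TensorProduct.map (f.restrictScalars k) (g.restrictScalars k) x with hy
  have e1 : (LinearMap.id : (Fin n → D₁) →ₗ[k] (Fin n → D₁)) =
      ∑ i, (LinearMap.single k (fun _ => D₁) i).comp (LinearMap.proj i) := by
    refine LinearMap.ext fun v => ?_
    simp only [LinearMap.id_apply, LinearMap.coe_sum, Finset.sum_apply, LinearMap.comp_apply,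
      LinearMap.proj_apply, LinearMap.coe_single]
    exact (Finset.univ_sum_single v).symm
  have e2 : (LinearMap.id : (Fin m → D₂) →ₗ[k] (Fin m → D₂)) =
      ∑ j, (LinearMap.single k (fun _ => D₂) j).comp (LinearMap.proj j) := by
    refine LinearMap.ext fun v => ?_
    simp only [LinearMap.id_apply, LinearMap.coe_sum, Finset.sum_apply, LinearMap.comp_apply,
      LinearMap.proj_apply, LinearMap.coe_single]
    exact (Finset.univ_sum_single v).symm
  calc y = TensorProduct.map LinearMap.id LinearMap.id y := by simp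
    _ = (TensorProduct.mapBilinear (RingHom.id k) _ _ _ _ LinearMap.id LinearMap.id) y := rfl
    _ = 0 := by
      rw [e1, e2]
      simp only [map_sum, LinearMap.sum_apply, TensorProduct.mapBilinear_apply]
      refine Finset.sum_eq_zero fun a _ => Finset.sum_eq_zero fun b _ => ?_
      rw [hy, TensorProduct.map_map, LinearMap.comp_assoc, LinearMap.comp_assoc, ← TensorProduct.map_map]
      have h0 := congrArg (TensorProduct.map (LinearMap.single k (fun _ => D₁) b)
        (LinearMap.single k (fun _ => D₂) a)) (hzero b a)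
      exact h0.trans (map_zero _)

variable (k : Type u) [Field k]

/-- The irreducible components of a tensor product of affine domains all have dimension the sum
of the dimensions. -/
theorem ringKrullDim_quotient_minimalPrime_tensor (A B : Type u) [CommRing A] [IsDomain A]
    [Algebra k A] [Algebra.FiniteType k A] [CommRing B] [IsDomain B] [Algebra k B]
    [Algebra.FiniteType k B] {a b : ℕ} (ha : ringKrullDim A = a) (hb : ringKrullDim B = b)
    (M : Ideal (A ⊗[k] B)) (hM : M ∈ minimalPrimes (A ⊗[k] B)) :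
    ringKrullDim ((A ⊗[k] B) ⧸ M) = ((a + b : ℕ) : WithBot ℕ∞) := by
  obtain ⟨s, g, ginj, gfin⟩ := VarDim.exists_noether k A
  obtain ⟨t, h, hinj, hfin⟩ := VarDim.exists_noether k B
  algebraize [g.toRingHom, h.toRingHom]
  haveI : IsScalarTower k (MvPolynomial (Fin s) k) A :=
    IsScalarTower.of_algebraMap_eq fun x => (g.commutes x).symm
  haveI : IsScalarTower k (MvPolynomial (Fin t) k) B :=
    IsScalarTower.of_algebraMap_eq fun x => (h.commutes x).symm
  haveI : FaithfulSMul (MvPolynomial (Fin s) k) A :=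
    (faithfulSMul_iff_algebraMap_injective _ _).mpr ginj
  haveI : FaithfulSMul (MvPolynomial (Fin t) k) B :=
    (faithfulSMul_iff_algebraMap_injective _ _).mpr hinj
  haveI : Module.Finite (MvPolynomial (Fin s) k) A := gfin
  haveI : Module.Finite (MvPolynomial (Fin t) k) B := hfin
  have hs : s = a := by
    have h1 : ringKrullDim A = (s : WithBot ℕ∞) := by
      rw [VarDim.ringKrullDim_eq_of_isIntegral (R := MvPolynomial (Fin s) k) (S := A),
        MvPolynomial.ringKrullDim_of_isNoetherianRing, ringKrullDim_eq_zero_of_field, zero_add,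
        Nat.card_eq_fintype_card, Fintype.card_fin]
    exact_mod_cast h1.symm.trans ha
  have ht : t = b := by
    have h1 : ringKrullDim B = (t : WithBot ℕ∞) := by
      rw [VarDim.ringKrullDim_eq_of_isIntegral (R := MvPolynomial (Fin t) k) (S := B),
        MvPolynomial.ringKrullDim_of_isNoetherianRing, ringKrullDim_eq_zero_of_field, zero_add,
        Nat.card_eq_fintype_card, Fintype.card_fin]
    exact_mod_cast h1.symm.trans hb
  subst hs ht
  let e := MvPolynomial.tensorEquivSum k (Fin s) (Fin t) k
  haveI : IsDomain (MvPolynomial (Fin s) k ⊗[k] MvPolynomial (Fin t) k) :=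
    e.injective.isDomain e.toRingHom
  let ι := Algebra.TensorProduct.map (IsScalarTower.toAlgHom k (MvPolynomial (Fin s) k) A)
      (IsScalarTower.toAlgHom k (MvPolynomial (Fin t) k) B)
  have hιfin : ι.toRingHom.Finite := RingHom.Finite.tensorProductMap gfin hfin
  haveI := hM.1.1
  have hker : ∀ w, ι w ∈ M → w = 0 := by
    intro w hw
    by_contra hw0
    refine Set.disjoint_left.mp (Ideal.disjoint_nonZeroDivisors_of_mem_minimalPrimes hM) hw ?_
    rw [SetLike.mem_coe, mem_nonZeroDivisors_iff]
    exact ⟨fun x hx => eq_zero_of_map_mul_eq_zero hw0 hx,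
      fun x hx => eq_zero_of_map_mul_eq_zero hw0 (by rwa [mul_comm])⟩
  let ψ : MvPolynomial (Fin s ⊕ Fin t) k →+* (A ⊗[k] B) ⧸ M :=
    (Ideal.Quotient.mk M).comp (ι.toRingHom.comp e.symm.toRingHom)
  have hψfin : ψ.Finite :=
    (RingHom.Finite.of_surjective _ Ideal.Quotient.mk_surjective).comp
      (hιfin.comp (RingHom.Finite.of_surjective _ e.symm.surjective))
  have hψinj : Function.Injective ψ := by
    rw [injective_iff_map_eq_zero]
    intro x hx
    have : e.symm x = 0 := hker _ (Ideal.Quotient.eq_zero_iff_mem.mp hx)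
    simpa using congrArg e this
  algebraize [ψ]
  haveI : FaithfulSMul (MvPolynomial (Fin s ⊕ Fin t) k) ((A ⊗[k] B) ⧸ M) :=
    (faithfulSMul_iff_algebraMap_injective _ _).mpr hψinj
  rw [VarDim.ringKrullDim_eq_of_isIntegral (R := MvPolynomial (Fin s ⊕ Fin t) k),
    MvPolynomial.ringKrullDim_of_isNoetherianRing, ringKrullDim_eq_zero_of_field, zero_add,
    Nat.card_eq_fintype_card, Fintype.card_sum, Fintype.card_fin, Fintype.card_fin]

open MvPolynomial in
theorem add_le_aux {N : ℕ} (A B C : Type u) [CommRing A] [IsDomain A] [Algebra k A]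
    [CommRing B] [IsDomain B] [Algebra k B] [CommRing C] [IsDomain C] [Algebra k C]
    (f : MvPolynomial (Fin N) k →ₐ[k] A) (g : MvPolynomial (Fin N) k →ₐ[k] B)
    (hf : Function.Surjective f) (hg : Function.Surjective g)
    (m : MvPolynomial (Fin N) k →ₐ[k] C) (hm : Function.Surjective m)
    (φA : A →ₐ[k] C) (φB : B →ₐ[k] C) (hA : φA.comp f = m) (hB : φB.comp g = m)
    (hmin : ∀ q : Ideal (MvPolynomial (Fin N) k), q.IsPrime → RingHom.ker f ≤ q →
      RingHom.ker g ≤ q → q ≤ RingHom.ker m → RingHom.ker m ≤ q)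
    {a b c : ℕ} (ha : ringKrullDim A = a) (hb : ringKrullDim B = b) (hc : ringKrullDim C = c) :
    a + b ≤ c + N := by
  classical
  haveI : Algebra.FiniteType k A := Algebra.FiniteType.of_surjective f hf
  haveI : Algebra.FiniteType k B := Algebra.FiniteType.of_surjective g hg
  let φ : A ⊗[k] B →ₐ[k] C := Algebra.TensorProduct.lift φA φB fun _ _ => Commute.all _ _
  have hφA : ∀ r, φA (f r) = m r := fun r => DFunLike.congr_fun hA r
  have hφB : ∀ r, φB (g r) = m r := fun r => DFunLike.congr_fun hB r
  have hφ : ∀ r r', φ (f r ⊗ₜ g r') = m (r * r') := fun r r' => by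
    simp [φ, hφA, hφB]
  have hφs : Function.Surjective φ := fun y => by
    obtain ⟨r, rfl⟩ := hm y
    exact ⟨f r ⊗ₜ 1, by rw [← map_one g, hφ, mul_one]⟩
  set M' : Ideal (A ⊗[k] B) := RingHom.ker φ with hM'
  haveI : M'.IsPrime := RingHom.ker_isPrime φ
  obtain ⟨M0, hM0, hM0le⟩ := @Ideal.exists_minimalPrimes_le (A ⊗[k] B) _ ⊥ M' _ bot_le
  haveI := hM0.1.1
  let S : Set (A ⊗[k] B) := Set.range fun i : Fin N =>
    f (X i) ⊗ₜ[k] (1 : B) - (1 : A) ⊗ₜ[k] g (X i)
  have hmin1 : ∀ q : Ideal (A ⊗[k] B), q.IsPrime → S ⊆ q → q ≤ M' → M' ≤ q := by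
    intro q hq hSq hqM
    let ψ₁ : MvPolynomial (Fin N) k →ₐ[k] (A ⊗[k] B) ⧸ q :=
      (Ideal.Quotient.mkₐ k q).comp (Algebra.TensorProduct.includeLeft.comp f)
    let ψ₂ : MvPolynomial (Fin N) k →ₐ[k] (A ⊗[k] B) ⧸ q :=
      (Ideal.Quotient.mkₐ k q).comp (Algebra.TensorProduct.includeRight.comp g)
    have heq : ψ₁ = ψ₂ := MvPolynomial.algHom_ext fun i =>
      Ideal.Quotient.eq.mpr (hSq ⟨i, rfl⟩)
    have hgen : ∀ z, ∃ r, ψ₁ r = Ideal.Quotient.mk q z := by
      intro z
      induction z using TensorProduct.induction_on with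
      | zero => exact ⟨0, by simp⟩
      | add z z' h h' =>
        obtain ⟨r, hr⟩ := h; obtain ⟨r', hr'⟩ := h'
        exact ⟨r + r', by rw [map_add, map_add, hr, hr']⟩
      | tmul x y =>
        obtain ⟨r, rfl⟩ := hf x
        obtain ⟨r', rfl⟩ := hg y
        refine ⟨r * r', ?_⟩
        rw [map_mul]
        conv_lhs => rw [show ψ₁ r' = ψ₂ r' by rw [heq]]
        simp [ψ₁, ψ₂, ← map_mul]
    set M1 := RingHom.ker ψ₁ with hM1
    haveI : M1.IsPrime := RingHom.ker_isPrime ψ₁
    have hfM1 : RingHom.ker f ≤ M1 := fun r hr => by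
      simp [hM1, RingHom.mem_ker, ψ₁, RingHom.mem_ker.mp hr]
    have hgM1 : RingHom.ker g ≤ M1 := fun r hr => by
      rw [hM1, RingHom.mem_ker, heq]
      simp [ψ₂, RingHom.mem_ker.mp hr]
    have hM1M : M1 ≤ RingHom.ker m := by
      intro r hr
      have h1 : f r ⊗ₜ[k] (1 : B) ∈ q := Ideal.Quotient.eq_zero_iff_mem.mp hr
      have h2 : φ (f r ⊗ₜ[k] (1 : B)) = 0 := hqM h1
      rw [← map_one g, hφ, mul_one] at h2
      exact h2
    have hMM1 : RingHom.ker m ≤ M1 := hmin M1 inferInstance hfM1 hgM1 hM1M
    intro z hz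
    obtain ⟨r, hr⟩ := hgen z
    have h1 : f r ⊗ₜ[k] (1 : B) - z ∈ q := Ideal.Quotient.eq.mp hr
    have h2 : φ (f r ⊗ₜ[k] (1 : B) - z) = 0 := hqM h1
    rw [map_sub, RingHom.mem_ker.mp hz, sub_zero, ← map_one g, hφ, mul_one] at h2
    have h3 : r ∈ M1 := hMM1 h2
    have h4 : Ideal.Quotient.mk q z = 0 := hr.symm.trans h3
    exact Ideal.Quotient.eq_zero_iff_mem.mp h4
  have hT0 := ringKrullDim_quotient_minimalPrime_tensor k A B ha hb M0 hM0
  haveI : Algebra.FiniteType k (A ⊗[k] B) :=
    Algebra.FiniteType.trans (R := k) (S := A) inferInstance inferInstance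
  haveI : Algebra.FiniteType k ((A ⊗[k] B) ⧸ M0) :=
    Algebra.FiniteType.of_surjective (Ideal.Quotient.mkₐ k M0) Ideal.Quotient.mk_surjective
  haveI : IsNoetherianRing ((A ⊗[k] B) ⧸ M0) := Algebra.FiniteType.isNoetherianRing k _
  set M'' := M'.map (Ideal.Quotient.mk M0) with hM''
  haveI : M''.IsPrime := Ideal.map_isPrime_of_surjective Ideal.Quotient.mk_surjective
    (by rw [Ideal.mk_ker]; exact hM0le)
  have hcomap : M''.comap (Ideal.Quotient.mk M0) = M' := by
    rw [hM'', Ideal.comap_map_of_surjective _ Ideal.Quotient.mk_surjective,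
      ← RingHom.ker_eq_comap_bot, Ideal.mk_ker, sup_eq_left.mpr hM0le]
  have hSM : S ⊆ M' := by
    rintro _ ⟨i, rfl⟩
    show φ _ = 0
    rw [map_sub, ← map_one g, hφ, ← map_one f, hφ, mul_one, one_mul, sub_self]
  have hmin' : M'' ∈ (Ideal.span ((Ideal.Quotient.mk M0) '' S)).minimalPrimes := by
    refine ⟨⟨inferInstance, ?_⟩, ?_⟩
    · rw [Ideal.span_le]
      rintro _ ⟨z, hz, rfl⟩
      exact Ideal.mem_map_of_mem _ (hSM hz)
    · rintro q ⟨hq, hSq⟩ hqM z hz
      obtain ⟨z, rfl⟩ := Ideal.Quotient.mk_surjective z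
      haveI := hq
      refine hmin1 (q.comap (Ideal.Quotient.mk M0)) inferInstance
        (fun y hy => hSq (Ideal.subset_span ⟨y, hy, rfl⟩))
        ((Ideal.comap_mono hqM).trans hcomap.le) ?_
      rw [← hcomap]; exact hz
  have hfinS : ((Ideal.Quotient.mk M0) '' S).Finite := (Set.finite_range _).image _
  have hcard : ((Ideal.Quotient.mk M0) '' S).ncard ≤ N := by
    refine (Set.ncard_image_le (Set.finite_range _)).trans ?_
    rw [← Set.image_univ]
    exact (Set.ncard_image_le Set.finite_univ).trans (by simp)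
  have hht : M''.height ≤ (N : ℕ∞) :=
    (Ideal.height_le_card_of_mem_minimalPrimes_span hfinS hmin').trans (by exact_mod_cast hcard)
  have hformula := VarDim.ringKrullDim_quotient_add_height k _ M''
  have hquot : ringKrullDim (((A ⊗[k] B) ⧸ M0) ⧸ M'') = (c : WithBot ℕ∞) := by
    rw [← hc]
    exact ringKrullDim_eq_of_ringEquiv ((DoubleQuot.quotQuotEquivQuotOfLE hM0le).trans
      (RingHom.quotientKerEquivOfSurjective (f := φ.toRingHom) hφs))
  rw [hquot, hT0] at hformula
  obtain ⟨h, hh⟩ := ENat.ne_top_iff_exists.mp (ne_top_of_le_ne_top (ENat.natCast_ne_top N) hht)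
  rw [← hh] at hformula hht
  have h1 : c + h = a + b := by exact_mod_cast hformula
  have h2 : h ≤ N := by exact_mod_cast hht
  omega

/-- Reduction to the diagonal: components of an intersection in affine space. -/
theorem add_le_of_mem_minimalPrimes_sup {N : ℕ} (P Q M : Ideal (MvPolynomial (Fin N) k))
    [P.IsPrime] [Q.IsPrime] (hM : M ∈ (P ⊔ Q).minimalPrimes) {a b c : ℕ}
    (ha : ringKrullDim (MvPolynomial (Fin N) k ⧸ P) = a)
    (hb : ringKrullDim (MvPolynomial (Fin N) k ⧸ Q) = b)
    (hc : ringKrullDim (MvPolynomial (Fin N) k ⧸ M) = c) : a + b ≤ c + N := by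
  haveI := hM.1.1
  obtain ⟨hPM, hQM⟩ := sup_le_iff.mp hM.1.2
  refine add_le_aux k _ _ _ (Ideal.Quotient.mkₐ k P) (Ideal.Quotient.mkₐ k Q)
    Ideal.Quotient.mk_surjective Ideal.Quotient.mk_surjective (Ideal.Quotient.mkₐ k M)
    Ideal.Quotient.mk_surjective (Ideal.Quotient.factorₐ k hPM) (Ideal.Quotient.factorₐ k hQM)
    (AlgHom.ext fun _ => rfl) (AlgHom.ext fun _ => rfl) (fun q hq hP hQ hqm => ?_) ha hb hc
  have hk : ∀ I : Ideal (MvPolynomial (Fin N) k), RingHom.ker (Ideal.Quotient.mkₐ k I) = I :=
    fun I => Ideal.ext fun x => by simp [RingHom.mem_ker, Ideal.Quotient.eq_zero_iff_mem]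
  rw [hk] at hP hQ hqm ⊢
  exact hM.2 ⟨hq, sup_le hP hQ⟩ hqm

end Groth.Agent.ProjDim
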