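import Mathlib
import Groth.Agent.ProjDim.Points
import Groth.Agent.ProjDim.Tensor

/-!
Hypersurfaces in projective space: homogeneous factors, dimensions of principal primes.
-/

universe u

set_option linter.style.haveILetI false
set_option linter.style.longLine false

open MvPolynomial

namespace Groth.Agent.ProjDim

variable {k : Type u} [Field k] {n : ℕ}

theorem dimQ_bot : dimQ (⊥ : Ideal (MvPolynomial (Fin (n + 1)) k)) = n + 1 := by
  have h := dimQ_spec (⊥ : Ideal (MvPolynomial (Fin (n + 1)) k))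
  rw [ringKrullDim_eq_of_ringEquiv (RingEquiv.quotientBot _),
    MvPolynomial.ringKrullDim_of_isNoetherianRing, ringKrullDim_eq_zero_of_field, zero_add,
    Nat.card_eq_fintype_card, Fintype.card_fin] at h
  exact_mod_cast h.symm

theorem dimQ_le_top (P : Ideal (MvPolynomial (Fin (n + 1)) k)) [P.IsPrime] : dimQ P ≤ n + 1 :=
  (dimQ_anti (P := (⊥ : Ideal (MvPolynomial (Fin (n + 1)) k))) bot_le).trans dimQ_bot.le

/-- A prime of codimension at most one containing a nonzero element is principal. -/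
theorem exists_prime_eq_span {P : Ideal (MvPolynomial (Fin (n + 1)) k)} [hP : P.IsPrime]
    (hne : P ≠ ⊥) (hdim : n ≤ dimQ P) : ∃ q, Prime q ∧ P = Ideal.span {q} := by
  obtain ⟨q, hq, hqp⟩ := hP.exists_mem_prime_of_ne_bot hne
  refine ⟨q, hqp, ?_⟩
  haveI := (Ideal.span_singleton_prime hqp.ne_zero).2 hqp
  have hle : Ideal.span {q} ≤ P := (Ideal.span_singleton_le_iff_mem _).2 hq
  by_contra h
  have h1 := dimQ_strictAnti (lt_of_le_of_ne hle (Ne.symm h))
  have h2 := dimQ_strictAnti (P := (⊥ : Ideal (MvPolynomial (Fin (n + 1)) k))) (Q := Ideal.span {q})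
    (bot_lt_iff_ne_bot.2 (by simpa using hqp.ne_zero))
  rw [dimQ_bot] at h2
  omega

theorem isHomogeneous_span_of_homogeneous {s : Set (MvPolynomial (Fin (n + 1)) k)}
    (h : ∀ a ∈ s, ∃ d, a.IsHomogeneous d) :
    (Ideal.span s).IsHomogeneous (CohB1.polyGrading n k) :=
  Ideal.homogeneous_span _ _ fun a ha => by
    obtain ⟨d, hd⟩ := h a ha
    exact ⟨d, (mem_homogeneousSubmodule _ _).2 hd⟩

/-- Prime factors of nonzero homogeneous polynomials generate homogeneous ideals. -/
theorem isHomogeneous_span_factor {f g : MvPolynomial (Fin (n + 1)) k} {d : ℕ}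
    (hf : f.IsHomogeneous d) (hf0 : f ≠ 0) (hg : Prime g) (hdvd : g ∣ f) :
    (Ideal.span {g}).IsHomogeneous (CohB1.polyGrading n k) := by
  haveI := (Ideal.span_singleton_prime hg.ne_zero).2 hg
  set C := ((Ideal.span {g}).homogeneousCore (CohB1.polyGrading n k)).toIdeal with hC
  haveI : C.IsPrime := Ideal.IsPrime.homogeneousCore inferInstance
  have hCle : C ≤ Ideal.span {g} := Ideal.toIdeal_homogeneousCore_le _ _
  have hfC : f ∈ C := Ideal.mem_homogeneousCore_of_homogeneous_of_mem
    ⟨d, (mem_homogeneousSubmodule _ _).2 hf⟩ (Ideal.mem_span_singleton.2 hdvd)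
  have hCne : C ≠ ⊥ := fun h0 => hf0 (by rw [h0, Ideal.mem_bot] at hfC; exact hfC)
  obtain ⟨q, hq, hqp⟩ := Ideal.IsPrime.exists_mem_prime_of_ne_bot ‹C.IsPrime› hCne
  have has := hg.irreducible.associated_of_dvd hqp.irreducible
    (Ideal.mem_span_singleton.1 (hCle hq))
  have : C = Ideal.span {g} := le_antisymm hCle (by
    rw [Ideal.span_singleton_eq_span_singleton.2 has, Ideal.span_singleton_le_iff_mem]
    exact hq)
  rw [← this]
  exact HomogeneousIdeal.isHomogeneous _

theorem mem_irr_of_isHomogeneous {f : MvPolynomial (Fin (n + 1)) k} {d : ℕ}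
    (hf : f.IsHomogeneous d) (hd : 0 < d) : f ∈ GenPt.irr k n :=
  irrelevant_le_irr (HomogeneousIdeal.mem_irrelevant_of_mem _ hd
    ((mem_homogeneousSubmodule _ _).2 hf))

end Groth.Agent.ProjDim
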