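import Mathlib
import Groth.Agent.ProjDim.Tensor
import Groth.Agent.ProjDim.Points

/-!
Components of intersections of equidimensional closed subsets of affine space.
-/

universe u

set_option linter.style.haveILetI false
set_option linter.style.longLine false

open TopologicalSpace Topology

namespace Groth.Agent.ProjDim

theorem topDim_zeroLocus_prime {R : Type u} [CommRing R] (p : Ideal R) :
    topologicalKrullDim (PrimeSpectrum.zeroLocus (p : Set R)) = ringKrullDim (R ⧸ p) := by
  have h := PrimeSpectrum.isClosedEmbedding_comap_of_surjective (R := R) (R ⧸ p)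
    (Ideal.Quotient.mk p) Ideal.Quotient.mk_surjective
  rw [← PrimeSpectrum.topologicalKrullDim_eq_ringKrullDim,
    ← (Homeomorph.setCongr (show Set.range (PrimeSpectrum.comap (Ideal.Quotient.mk p)) =
      PrimeSpectrum.zeroLocus (p : Set R) by
        rw [range_comap_of_surjective _ _ Ideal.Quotient.mk_surjective,
          Ideal.mk_ker])).isHomeomorph.topologicalKrullDim_eq]
  exact (h.isEmbedding.toHomeomorph.isHomeomorph.topologicalKrullDim_eq _).symm

theorem exists_prime_of_component {X : Type*} [TopologicalSpace X] {R : Type u} [CommRing R]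
    (e : X ≃ₜ PrimeSpectrum R) {A : Set X} (hA : IsClosed A) {C : Set A}
    (hC : C ∈ irreducibleComponents A) :
    ∃ P : Ideal R, P.IsPrime ∧ e '' (Subtype.val '' C) = PrimeSpectrum.zeroLocus (P : Set R) ∧
      topologicalKrullDim C = ringKrullDim (R ⧸ P) := by
  have hCc : IsClosed C := isClosed_of_mem_irreducibleComponents C hC
  have h1 : IsClosed (e '' (Subtype.val '' C)) :=
    e.isClosedMap _ (hA.isClosedEmbedding_subtypeVal.isClosedMap C hCc)
  have h2 : IsIrreducible (e '' (Subtype.val '' C)) :=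
    (hC.1.image _ continuous_subtype_val.continuousOn).image _ e.continuous.continuousOn
  refine ⟨PrimeSpectrum.vanishingIdeal (e '' (Subtype.val '' C)),
    PrimeSpectrum.isIrreducible_iff_vanishingIdeal_isPrime.1 h2, ?_, ?_⟩
  · rw [PrimeSpectrum.zeroLocus_vanishingIdeal_eq_closure, h1.closure_eq]
  · rw [← topDim_zeroLocus_prime, PrimeSpectrum.zeroLocus_vanishingIdeal_eq_closure, h1.closure_eq]
    exact ((IsEmbedding.subtypeVal.homeomorphImage C).trans
      (e.isEmbedding.homeomorphImage _)).isHomeomorph.topologicalKrullDim_eq _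

variable {k : Type u} [Field k]

/-- The dimension inequality for intersections in affine space. -/
theorem le_topDim_component_inter {n r s : ℕ} {T : Type*} [TopologicalSpace T]
    (e : T ≃ₜ PrimeSpectrum (MvPolynomial (Fin n) k))
    {X Y : Set T} (hX : IsClosed X) (hY : IsClosed Y)
    (hXr : ∀ Z ∈ irreducibleComponents X, topologicalKrullDim Z = r)
    (hYs : ∀ Z ∈ irreducibleComponents Y, topologicalKrullDim Z = s)
    {Z : Set ↥(X ∩ Y)} (hZ : Z ∈ irreducibleComponents ↥(X ∩ Y)) :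
    ((r + s : ℕ) : WithBot ℕ∞) ≤ topologicalKrullDim Z + (n : WithBot ℕ∞) := by
  obtain ⟨M, hMp, hMeq, hMdim⟩ := exists_prime_of_component e (hX.inter hY) hZ
  haveI := hMp
  have hm : (⟨M, hMp⟩ : PrimeSpectrum (MvPolynomial (Fin n) k)) ∈ e '' (Subtype.val '' Z) := by
    rw [hMeq, PrimeSpectrum.mem_zeroLocus]
  obtain ⟨_, ⟨z, hz, rfl⟩, hzM⟩ := hm
  have side : ∀ (W : Set T) (c : ℕ), IsClosed W → (z : T) ∈ W →
      (∀ C ∈ irreducibleComponents W, topologicalKrullDim C = c) →
      ∃ P : Ideal (MvPolynomial (Fin n) k), P.IsPrime ∧ P ≤ M ∧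
        PrimeSpectrum.zeroLocus (P : Set (MvPolynomial (Fin n) k)) ⊆ e '' W ∧
        ringKrullDim (MvPolynomial (Fin n) k ⧸ P) = c := by
    intro W c hW hzW hWc
    obtain ⟨P, hP, hPeq, hPdim⟩ := exists_prime_of_component e hW
      (irreducibleComponent_mem_irreducibleComponents (⟨z, hzW⟩ : W))
    refine ⟨P, hP, ?_, ?_, ?_⟩
    · have : e z ∈ e '' (Subtype.val '' irreducibleComponent (⟨z, hzW⟩ : W)) :=
        ⟨_, ⟨_, mem_irreducibleComponent, rfl⟩, rfl⟩
      rw [hPeq, hzM, PrimeSpectrum.mem_zeroLocus] at this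
      exact this
    · rw [← hPeq]
      exact Set.image_mono (Subtype.coe_image_subset _ _)
    · rw [← hPdim, hWc _ (irreducibleComponent_mem_irreducibleComponents _)]
  obtain ⟨P, hP, hPM, hPX, hPdim⟩ := side X r hX z.2.1 hXr
  obtain ⟨Q, hQ, hQM, hQY, hQdim⟩ := side Y s hY z.2.2 hYs
  obtain ⟨M1, hM1, hM1M⟩ := Ideal.exists_minimalPrimes_le (sup_le hPM hQM)
  haveI := hM1.1.1
  obtain ⟨hP1, hQ1⟩ := sup_le_iff.1 hM1.1.2
  have hcl : closure ({(⟨M1, hM1.1.1⟩ : PrimeSpectrum _)} : Set _) ⊆ e '' (X ∩ Y) := by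
    rw [PrimeSpectrum.closure_singleton, Set.image_inter e.injective]
    exact Set.subset_inter
      ((PrimeSpectrum.zeroLocus_anti_mono_ideal hP1).trans hPX)
      ((PrimeSpectrum.zeroLocus_anti_mono_ideal hQ1).trans hQY)
  obtain ⟨t, htXY, ht⟩ := hcl (subset_closure rfl)
  have hsub : Z ⊆ closure ({(⟨t, htXY⟩ : ↥(X ∩ Y))} : Set ↥(X ∩ Y)) := by
    intro w hw
    rw [closure_subtype, Set.image_singleton]
    have h1 : e w ∈ closure ({e t} : Set _) := by
      rw [ht, PrimeSpectrum.closure_singleton]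
      refine PrimeSpectrum.zeroLocus_anti_mono_ideal hM1M ?_
      rw [← hMeq]; exact ⟨_, ⟨w, hw, rfl⟩, rfl⟩
    rwa [← Set.image_singleton, ← e.image_closure, e.injective.mem_set_image] at h1
  have htZ : (⟨t, htXY⟩ : ↥(X ∩ Y)) ∈ Z :=
    hZ.2 isIrreducible_singleton.closure hsub (subset_closure rfl)
  have hMM1 : M ≤ M1 := by
    have : e t ∈ e '' (Subtype.val '' Z) := ⟨_, ⟨_, htZ, rfl⟩, rfl⟩
    rw [hMeq, ht, PrimeSpectrum.mem_zeroLocus] at this
    exact this
  obtain rfl := le_antisymm hM1M hMM1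
  obtain ⟨c, hc⟩ := exists_dim_eq M1
  rw [hMdim, hc]
  exact_mod_cast add_le_of_mem_minimalPrimes_sup k P Q M1 hM1 hPdim hQdim hc

end Groth.Agent.ProjDim
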